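import Mathlib

set_option autoImplicit false
universe u

namespace KummerLib

theorem aux {A S : Type u} [CommRing A] [CommRing S] [Algebra A S] (π : A) (m : ℕ) (hm : 0 < m) (k : ℕ)
    (u : Aˣ) (Z : S) (hπS : IsUnit (algebraMap A S π)) (hZ : Z ^ m = algebraMap A S (π ^ k * u))
    (hsp : (Ideal.span {algebraMap A (integralClosure A S) π}).IsPrime) : k % m = 0 := by
  obtain ⟨b, hb⟩ : ∃ b : S, b ^ m = algebraMap A S (π ^ (k % m) * u) := by
    refine ⟨Z * ((hπS.unit⁻¹ : Sˣ) : S) ^ (k / m), ?_⟩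
    have e : π ^ k * (u : A) = π ^ (k % m) * u * (π ^ (k / m)) ^ m := by
      rw [← pow_mul, mul_right_comm, ← pow_add]
      congr 2
      rw [mul_comm]
      exact (Nat.mod_add_div k m).symm
    rw [mul_pow, hZ, e, map_mul, map_pow (algebraMap A S) (π ^ (k / m)) m, map_pow, mul_assoc,
      ← mul_pow, ← mul_pow, IsUnit.mul_val_inv, one_pow, one_pow, mul_one]
  have hbint : IsIntegral A b := IsIntegral.of_pow hm (hb ▸ isIntegral_algebraMap)
  by_contra hr
  set B := integralClosure A S
  have hb' : (⟨b, hbint⟩ : B) ^ m = algebraMap A B (π ^ (k % m) * u) := Subtype.ext hb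
  have hmem : (⟨b, hbint⟩ : B) ∈ Ideal.span {algebraMap A B π} := by
    refine hsp.mem_of_pow_mem m ?_
    rw [hb', map_mul, map_pow]
    exact Ideal.mul_mem_right _ _ (Ideal.pow_mem_of_mem _ (Ideal.mem_span_singleton_self _) _ (Nat.pos_of_ne_zero hr))
  obtain ⟨c, hc⟩ := Ideal.mem_span_singleton'.mp hmem
  have hlt : k % m < m := Nat.mod_lt _ hm
  have hcS : (c : S) * algebraMap A S π = b := congrArg Subtype.val hc
  have h2 : algebraMap A S π ^ (m - k % m) * (c : S) ^ m = algebraMap A S (u : A) := by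
    rw [map_mul, map_pow] at hb
    apply (hπS.pow (k % m)).mul_left_cancel
    rw [← mul_assoc, ← pow_add, show k % m + (m - k % m) = m by omega, ← mul_pow, mul_comm, hcS, hb]
  have h3 : algebraMap A B (u : A) ∈ Ideal.span {algebraMap A B π} := by
    rw [show algebraMap A B (u : A) = algebraMap A B π ^ (m - k % m) * c ^ m from Subtype.ext h2.symm]
    exact Ideal.mul_mem_right _ _ (Ideal.pow_mem_of_mem _ (Ideal.mem_span_singleton_self _) _ (by omega))
  exact hsp.ne_top (Ideal.eq_top_of_isUnit_mem _ h3 (u.isUnit.map _))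

end KummerLib
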